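import Cfsg.Agent.H492.Fi24P.Chk

/-!
# `Fi24` on the commuting pairs of transpositions: the rows of the collapsed matrix, kernel checks (helper492)
-/

set_option autoImplicit false
set_option maxRecDepth 100000
set_option exponentiation.threshold 600000
set_option Elab.async false

namespace Cfsg.Agent.H492.Fi24P.Chk2

open Cfsg Cfsg.Agent.Lib.PermNet Cfsg.Agent.Lib.PermNetOrbit Cfsg.Agent.Lib.PermNetPt
open Cfsg.Agent.Fischer.Fi24RepDef Cfsg.Agent.Fischer.Fi24Rep Cfsg.Agent.Fischer.Fi24RepOrbData
open Cfsg.Agent.Fischer.Fi24RepOrb (UG)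
open Cfsg.Agent.H492.Fi24P.Chk
open Cfsg.Spor.Fi24 (Gen)

/-! ### types of some points -/

theorem ty_2 : and (tb M3 2) (tb UG 2) = true := by decide +kernel
theorem ty_3 : and (tb M3 3) (tb UG 3) = true := by decide +kernel
theorem ty_193 : and (tb M1 193) (tb UG 193) = true := by decide +kernel
theorem ty_199 : and (tb M1 199) (tb UG 199) = true := by decide +kernel
theorem ty_308002 : and (tb M2 308002) (tb UG 308002) = true := by decide +kernel
theorem ty_279083 : and (tb M2 279083) (tb UG 279083) = true := by decide +kernel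
theorem ty_307872 : and (tb M0 307872) (tb UG 307872) = true := by decide +kernel
theorem ty_307841 : and (tb M0 307841) (tb UG 307841) = true := by decide +kernel
theorem ty_307842 : and (tb M0 307842) (tb UG 307842) = true := by decide +kernel
theorem ty_305410 : and (tb M0 305410) (tb UG 305410) = true := by decide +kernel
theorem ty_192 : and (tb M1 192) (tb UG 192) = true := by decide +kernel
theorem ty_307072 : and (tb M2 307072) (tb UG 307072) = true := by decide +kernel
theorem ty_307968 : and (tb M2 307968) (tb UG 307968) = true := by decide +kernel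
theorem ty_6 : and (tb M3 6) (tb UG 6) = true := by decide +kernel
theorem ty_289152 : and (tb M0 289152) (tb UG 289152) = true := by decide +kernel
theorem ty_307970 : and (tb M2 307970) (tb UG 307970) = true := by decide +kernel
theorem ty_482 : and (tb M1 482) (tb UG 482) = true := by decide +kernel
theorem ty_276672 : and (tb M2 276672) (tb UG 276672) = true := by decide +kernel
theorem ty_307840 : and (tb M0 307840) (tb UG 307840) = true := by decide +kernel
theorem ty_307873 : and (tb M0 307873) (tb UG 307873) = true := by decide +kernel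
theorem ty_307874 : and (tb M0 307874) (tb UG 307874) = true := by decide +kernel
theorem ty_305442 : and (tb M0 305442) (tb UG 305442) = true := by decide +kernel

/-! ### words for the representatives -/

def w0 : List Gen := []

theorem chk_w0 : and (and (chkPt (nw w0 false) 0 0) (chkPt (nw w0 false) 1 1))
    (and (chkPt (nw w0.reverse false) 0 0) (chkPt (nw w0.reverse false) 1 1)) = true := by decide +kernel

def w1 : List Gen := [.d, .e, .c, .d, .b, .c, .a, .b]

theorem chk_w1 : and (and (chkPt (nw w1 false) 0 0) (chkPt (nw w1 false) 1 3))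
    (and (chkPt (nw w1.reverse false) 0 0) (chkPt (nw w1.reverse false) 1 2)) = true := by decide +kernel

def w2 : List Gen := [.a, .b]

theorem chk_w2 : and (and (chkPt (nw w2 false) 0 0) (chkPt (nw w2 false) 1 193))
    (and (chkPt (nw w2.reverse false) 0 0) (chkPt (nw w2.reverse false) 1 192)) = true := by decide +kernel

def w3 : List Gen := [.b, .c, .a, .b, .k, .a, .l, .k, .d, .e, .c, .d, .b, .c, .a, .b]

theorem chk_w3 : and (and (chkPt (nw w3 false) 0 2) (chkPt (nw w3 false) 1 3))
    (and (chkPt (nw w3.reverse false) 0 2) (chkPt (nw w3.reverse false) 1 3)) = true := by decide +kernel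

def w4 : List Gen := [.a, .b, .k, .a, .l, .k, .d, .e, .c, .d, .b, .c, .a, .b]

theorem chk_w4 : and (and (chkPt (nw w4 false) 0 193) (chkPt (nw w4 false) 1 3))
    (and (chkPt (nw w4.reverse false) 0 2) (chkPt (nw w4.reverse false) 1 307072)) = true := by decide +kernel

def w5 : List Gen := [.l, .k, .d, .e, .c, .d, .b, .c, .a, .b]

theorem chk_w5 : and (and (chkPt (nw w5 false) 0 307872) (chkPt (nw w5 false) 1 3))
    (and (chkPt (nw w5.reverse false) 0 307968) (chkPt (nw w5.reverse false) 1 308002)) = true := by decide +kernel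

def w6 : List Gen := [.a, .b, .k, .a, .l, .k, .f, .e, .d, .h, .c, .d, .e, .b, .c, .d, .h, .f, .e, .d, .c, .b]

theorem chk_w6 : and (and (chkPt (nw w6 false) 0 193) (chkPt (nw w6 false) 1 199))
    (and (chkPt (nw w6.reverse false) 0 6) (chkPt (nw w6.reverse false) 1 289152)) = true := by decide +kernel

def w7 : List Gen := [.a, .b, .k, .a, .l, .k, .c, .a, .b]

theorem chk_w7 : and (and (chkPt (nw w7 false) 0 193) (chkPt (nw w7 false) 1 308002))
    (and (chkPt (nw w7.reverse false) 0 192) (chkPt (nw w7.reverse false) 1 307970)) = true := by decide +kernel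

def w8 : List Gen := [.a, .b, .k, .a, .l, .k, .c, .d, .h, .i, .g, .f, .e, .d, .h, .j, .f, .g, .e, .f, .c, .d, .e, .b, .c, .d, .h, .i, .f, .c, .d, .e, .b, .c, .d, .h, .j, .g, .f, .e, .d, .c, .b]

theorem chk_w8 : and (and (chkPt (nw w8 false) 0 193) (chkPt (nw w8 false) 1 279083))
    (and (chkPt (nw w8.reverse false) 0 482) (chkPt (nw w8.reverse false) 1 276672)) = true := by decide +kernel

def w9 : List Gen := [.l, .k, .a, .b]

theorem chk_w9 : and (and (chkPt (nw w9 false) 0 307872) (chkPt (nw w9 false) 1 193))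
    (and (chkPt (nw w9.reverse false) 0 307968) (chkPt (nw w9.reverse false) 1 307872)) = true := by decide +kernel

def w10 : List Gen := [.l, .k]

theorem chk_w10 : and (and (chkPt (nw w10 false) 0 307872) (chkPt (nw w10 false) 1 307841))
    (and (chkPt (nw w10.reverse false) 0 307840) (chkPt (nw w10.reverse false) 1 307873)) = true := by decide +kernel

def w11 : List Gen := [.l, .k, .b, .c, .d, .h, .e, .d, .c, .b]

theorem chk_w11 : and (and (chkPt (nw w11 false) 0 307872) (chkPt (nw w11 false) 1 307842))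
    (and (chkPt (nw w11.reverse false) 0 307840) (chkPt (nw w11.reverse false) 1 307874)) = true := by decide +kernel

def w12 : List Gen := [.l, .k, .b, .c, .d, .h, .i, .e, .d, .h, .f, .e, .d, .c, .b]

theorem chk_w12 : and (and (chkPt (nw w12 false) 0 307872) (chkPt (nw w12 false) 1 305410))
    (and (chkPt (nw w12.reverse false) 0 307840) (chkPt (nw w12.reverse false) 1 305442)) = true := by decide +kernel

/-! ### the involution `ζ` -/

theorem ze_307872 : chkPt (nw ze false) 307872 307841 = true := by decide +kernel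
theorem ze_307842 : chkPt (nw ze false) 307842 307875 = true := by decide +kernel
theorem ze_305410 : chkPt (nw ze false) 305410 305443 = true := by decide +kernel
theorem ze_307840 : chkPt (nw ze false) 307840 307873 = true := by decide +kernel

def u307873 : List Gen := [.a, .l, .k]

theorem chk_u307873 : chkPt (nw u307873 false) 0 307873 = true := by decide +kernel

theorem adj_11 : tb (nb u307841) 307842 = true := by decide +kernel
theorem adj_12 : tb (nb u307841) 305410 = false := by decide +kernel
theorem adj_11' : tb (nb u307873) 307874 = true := by decide +kernel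
theorem adj_12' : tb (nb u307873) 305442 = false := by decide +kernel

/-! ### common neighbours -/

theorem e7_7 : and (and (tb UW 4) (tb N1 4)) (and (tb (nb u193) 4) (tb (nb u308002) 4)) = true := by decide +kernel

theorem e7_8 : Nat.beq (Nat.land M3 (Nat.land (nb u193) (nb u279083))) 0 = true := by decide +kernel

def h6 : List Gen := [.c, .d, .h, .e, .d, .c]

theorem chk_h6 : and (and (chkPt (nw h6 false) 0 0) (chkPt (nw h6 false) 1 1)) (chkPt (nw h6 false) 193 199) = true := by
  decide +kernel

def h7 : List Gen := [.c, .k, .l, .a, .k]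

theorem chk_h7 : and (and (chkPt (nw h7 false) 0 1) (chkPt (nw h7 false) 1 0)) (chkPt (nw h7 false) 193 308002) = true := by
  decide +kernel

def h8 : List Gen := [.c, .d, .h, .i, .e, .f, .k, .a, .b, .c, .d, .h, .e, .d, .c, .b, .a, .k, .l, .k, .a, .b, .c, .d, .e, .h, .d, .c, .b, .a, .k, .g, .j, .f, .g, .e, .d, .h, .e, .c, .i, .d, .f, .h, .e, .d, .c, .k, .l, .a, .k]

theorem chk_h8 : and (and (chkPt (nw h8 false) 0 1) (chkPt (nw h8 false) 1 0)) (chkPt (nw h8 false) 193 279083) = true := by
  decide +kernel

/-- transport of a mask -/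
noncomputable def trm (h : List Gen) (O : ℕ) : ℕ := appWord (nw h.reverse false) O

/-! ### the masks of the labels -/

noncomputable def A0 : List ℕ := [2, M3, M1]
noncomputable def A1 : List ℕ := [1, M3, M2]
noncomputable def A3 : List ℕ := [0, 3, 0, M3, Nat.lor M1 M2, M0]
noncomputable def A193 : List ℕ := [0, 0, 1, 0, M3, 0, M1, OS12a, OS12b, M0]
noncomputable def A199 : List ℕ := [0, 0, 1, 0, M3, 0, M1, trm h6 OS12a, trm h6 OS12b, M0]
noncomputable def A308002 : List ℕ := [0, 0, 2, 0, M3, 0, M2, trm h7 OS12a, trm h7 OS12b, M0]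
noncomputable def A279083 : List ℕ := [0, 0, 2, 0, M3, 0, M2, trm h8 OS12a, trm h8 OS12b, M0]

/-- the masks for a point of type 0: `z` the point `ζ x`, `Z` its neighbours -/
noncomputable def AZ (z Z : ℕ) : List ℕ := [0, 0, 0, 0, 0, M3, 0, 0, 0, Nat.lor M1 M2, Nat.pow 2 z, Nat.land M0 Z,
  Nat.xor M0 (Nat.lor (Nat.pow 2 z) (Nat.land M0 Z))]

noncomputable def cnt (F : ℕ) (A : List ℕ) (j : ℕ) : ℕ := seq (Nat.land F (A.getD j 0)) (pc 19)

noncomputable def rowOk (F : ℕ) (A B n : List ℕ) : Bool :=
  List.rec (motive := fun _ => ℕ → Bool) (fun _ => Nat.beq (Nat.shiftRight F (Nat.pow 2 19)) 0)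
    (fun x _ ih j => and (Nat.beq (Nat.add (cnt F A j) (cnt F B j)) x) (ih (Nat.succ j))) n 0

theorem row0 : rowOk (Nat.land (nb Chk.u0) (nb Chk.u1)) A0 A1
    [0, 7020, 0, 0, 0, 0, 0, 0, 0, 0, 0, 0, 0] = true := by decide +kernel

theorem row1 : rowOk (Nat.land (nb Chk.u0) (nb Chk.u3)) A0 A3
    [1, 694, 2816, 693, 2816, 0, 0, 0, 0, 0, 0, 0, 0] = true := by decide +kernel

theorem row2 : rowOk (Nat.land (nb Chk.u0) (nb Chk.u193)) A0 A193
    [0, 351, 3159, 0, 351, 0, 3159, 0, 0, 0, 0, 0, 0] = true := by decide +kernel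

theorem row3 : rowOk (Nat.land (nb Chk.u3) (nb Chk.u2)) A3 A3
    [0, 4, 0, 360, 2048, 4608, 0, 0, 0, 0, 0, 0, 0] = true := by decide +kernel

theorem row4 : rowOk (Nat.land (nb Chk.u3) (nb Chk.u193)) A3 A193
    [0, 1, 1, 126, 917, 2592, 567, 224, 0, 2592, 0, 0, 0] = true := by decide +kernel

theorem row5 : rowOk (Nat.land (nb Chk.u3) (nb Chk.u307872)) A3 (AZ 307841 (nb (ze ++ u307872)))
    [0, 0, 0, 63, 576, 2934, 0, 0, 0, 576, 1, 630, 2240] = true := by decide +kernel

theorem row6 : rowOk (Nat.land (nb Chk.u193) (nb Chk.u199)) A193 A199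
    [0, 0, 2, 0, 126, 0, 1260, 112, 480, 5040, 0, 0, 0] = true := by decide +kernel

theorem row7 : rowOk (Nat.land (nb Chk.u193) (nb Chk.u308002)) A193 A308002
    [0, 0, 0, 0, 216, 0, 486, 486, 0, 5832, 0, 0, 0] = true := by decide +kernel

theorem row8 : rowOk (Nat.land (nb Chk.u193) (nb Chk.u279083)) A193 A279083
    [0, 0, 0, 0, 0, 0, 702, 0, 702, 5616, 0, 0, 0] = true := by decide +kernel

theorem row9 : rowOk (Nat.land (nb Chk.u193) (nb Chk.u307872)) A193 (AZ 307841 (nb (ze ++ u307872)))
    [0, 0, 0, 0, 36, 36, 315, 84, 240, 3474, 0, 315, 2520] = true := by decide +kernel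

theorem row10 : rowOk (Nat.land (nb Chk.u307872) (nb Chk.u307841)) (AZ 307841 (nb (ze ++ u307872))) (AZ 307872 (nb (ze ++ u307841)))
    [0, 0, 0, 0, 0, 720, 0, 0, 0, 0, 0, 6300, 0] = true := by decide +kernel

theorem row11 : rowOk (Nat.land (nb Chk.u307872) (nb Chk.u307842)) (AZ 307841 (nb (ze ++ u307872))) (AZ 307875 (nb (ze ++ u307842)))
    [0, 0, 0, 0, 0, 144, 0, 0, 0, 1152, 2, 1242, 4480] = true := by decide +kernel

theorem row12 : rowOk (Nat.land (nb Chk.u307872) (nb Chk.u305410)) (AZ 307841 (nb (ze ++ u307872))) (AZ 305443 (nb (ze ++ u305410)))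
    [0, 0, 0, 0, 0, 72, 0, 0, 0, 1296, 0, 630, 5022] = true := by decide +kernel

end Cfsg.Agent.H492.Fi24P.Chk2
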